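import Mathlib
import Cfsg.Agent.H29.HM133.D0
import Cfsg.Agent.H19.PM

set_option autoImplicit false
set_option maxRecDepth 100000
set_option Elab.async false
set_option linter.all false

namespace H29.HM133

open H19
noncomputable def PCM : ℕ := geo (2 ^ 22 - 1) 2926 133
noncomputable def PRM : ℕ := 2 ^ 2926 - 1
noncomputable def PQM : ℕ := geo2 (2 ^ 9 - 1) 22 133
noncomputable def Pone : ℕ := geo 1 2948 133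
noncomputable abbrev P : PM := ⟨5, 133, 22, 1639, 13, 2926, PCM, PRM, PQM, Pone⟩
theorem Pok : P.OK := PM.ok_of_chk (by decide +kernel)
noncomputable def lcl : List ℕ := [m0, m1, m2, m3, m4, m5, m6]
noncomputable def lc : ℕ → ℕ := nth P.one lcl
def ivl : List ℕ := [1, 0, 3, 2, 4, 6, 5]
theorem hii : ∀ c, ivOf ivl (ivOf ivl c) = c := ivOf_ivOf (by decide +kernel)
def G0 : List (List ℕ) := [[2, 2, 2, 2, 2, 2], [0, 0, 2, 0, 0, 3], [1, 3, 0, 2, 1, 3, 0, 2, 1, 3, 0, 2]]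
def G1 : List (List ℕ) := [[1, 2, 2, 0, 2, 2, 2, 1, 2, 2, 0, 2, 2, 2, 1, 2, 2, 0, 2, 2, 2]]
def G2 : List (List ℕ) := [[0, 2, 0, 2, 0, 2, 0, 2, 0, 2, 0, 2, 0, 2, 0, 2]]
def G3 : List (List ℕ) := [[0, 2, 0, 2, 2, 2, 0, 2, 0, 2, 2, 2, 0, 2, 0, 2, 2, 2, 0, 2, 0, 2, 2, 2], [4, 0, 4, 0]]
def G4 : List (List ℕ) := [[4, 2, 1, 3, 3, 1, 3, 1, 3, 4, 2, 0, 2, 0, 2, 2, 0, 3, 1, 1]]
def G5 : List (List ℕ) := [[4, 3, 1, 3, 1, 3, 3, 3, 4, 2, 2, 2, 0, 2, 0, 2, 0, 3, 1, 3, 1, 3, 3, 3, 4, 2, 2, 2, 0, 2, 0, 2, 0, 3, 1, 3, 1, 3, 3, 3, 4, 2, 2, 2, 0, 2, 0, 2, 0]]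
def G6 : List (List ℕ) := [[5, 5, 5, 5, 5], [1, 5, 0, 5, 5], [6, 3, 5, 2], [4, 5, 4, 5, 4, 5]]

end H29.HM133
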