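import Mathlib
import Cfsg.Agent.H29.HM133.B

set_option autoImplicit false
set_option maxRecDepth 100000
set_option Elab.async false
set_option linter.all false

namespace H29.HM133

open H19
theorem l0 : P.chkLet 3 lcl ivl 0 = true := by decide +kernel

theorem l1 : P.chkLet 3 lcl ivl 1 = true := by decide +kernel

theorem l2 : P.chkLet 3 lcl ivl 2 = true := by decide +kernel

theorem l3 : P.chkLet 3 lcl ivl 3 = true := by decide +kernel

theorem l4 : P.chkLet 3 lcl ivl 4 = true := by decide +kernel

theorem l5 : P.chkLet 3 lcl ivl 5 = true := by decide +kernel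

theorem l6 : P.chkLet 3 lcl ivl 6 = true := by decide +kernel

theorem r0 : chkRelC P.mul P.one lc (ivOf ivl) G0 = true := by decide +kernel

theorem r1 : chkRelC P.mul P.one lc (ivOf ivl) G1 = true := by decide +kernel

theorem r2 : chkRelC P.mul P.one lc (ivOf ivl) G2 = true := by decide +kernel

theorem r3 : chkRelC P.mul P.one lc (ivOf ivl) G3 = true := by decide +kernel

end H29.HM133
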