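import Mathlib
import Cfsg.Agent.H29.HM133.B

set_option autoImplicit false
set_option maxRecDepth 100000
set_option Elab.async false
set_option linter.all false

namespace H29.HM133

open H19
theorem r4 : chkRelC P.mul P.one lc (ivOf ivl) G4 = true := by decide +kernel

theorem r5 : chkRelC P.mul P.one lc (ivOf ivl) G5 = true := by decide +kernel

theorem r6 : chkRelC P.mul P.one lc (ivOf ivl) G6 = true := by decide +kernel

end H29.HM133
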